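import Groth.Agent.Lib.Helper34.SV.HasseExist
import Groth.Agent.Lib.Helper88.SVLocal
import Groth.Agent.Lib.Helper88.SVExpansion

/-!
# Total Hasse derivatives with respect to a local parameter exist (helper34)
-/

set_option autoImplicit false
set_option linter.style.haveILetI false
set_option linter.unusedSectionVars false

namespace Groth.Agent.Lib.Helper34.SV

open FunFld WithZero LocRes PowerSeries IntermediateField
open Groth.Agent.Lib.Helper88.FF Groth.Agent.Lib.Helper88.SV

variable {k K : Type*} [Field k] [IsAlgClosed k] [Field K] [Algebra k K]

/-- Over an algebraically closed (more generally perfect) constant field a function field has a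
separating element together with its total Hasse derivative. -/
theorem exists_hasse (hK : IsFunctionField k K) :
    ∃ (x : K) (H : K →ₐ[k] K⟦X⟧), IsHasseFamily x H := by
  obtain ⟨x, hx, hsep⟩ := exists_separating_of_perfectField hK
  haveI := hsep
  haveI : FiniteDimensional k⟮x⟯ K := finiteDimensional_adjoin_of_transcendental hK hx
  obtain ⟨H, hH⟩ := exists_hasse_of_separating hx
  exact ⟨x, H, hH⟩

/-- The total Hasse derivative with respect to a local parameter at any place exists. -/
theorem exists_hasse_at (hK : IsFunctionField k K) (P : Place k K) {t : K}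
    (ht : P.1 t = exp (-1 : ℤ)) : ∃ Ht : K →ₐ[k] K⟦X⟧, IsHasseFamily t Ht := by
  obtain ⟨x, H, hH⟩ := exists_hasse hK
  choose Φ hΦ using fun P : Place k K => exists_expansion hK P
  exact exists_isHasseFamily hH (hasseD_one_ne_zero_of_uniformizer hK Φ hΦ hH ht)

end Groth.Agent.Lib.Helper34.SV
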