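import Groth.Agent.Lib.Helper34.SV.HasseExtend
import Groth.Agent.Lib.Helper88.FunFldSep
import Groth.Agent.Lib.Helper88.FunFldDeg
import Groth.Prelude.Def_LocRes

/-!
# Existence of total Hasse derivatives with respect to a separating element (helper34)
-/

set_option autoImplicit false
set_option linter.style.haveILetI false
set_option linter.unusedSectionVars false

namespace Groth.Agent.Lib.Helper34.SV

open Polynomial PowerSeries IntermediateField

variable {k K : Type*} [Field k] [Field K] [Algebra k K]

/-- The constant coefficient as a `k`-algebra homomorphism. -/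
noncomputable def ccAlg : K⟦X⟧ →ₐ[k] K :=
  { (PowerSeries.constantCoeff (R := K)) with
    commutes' := fun a => by
      change PowerSeries.constantCoeff (algebraMap k K⟦X⟧ a) = algebraMap k K a
      rw [IsScalarTower.algebraMap_apply k K K⟦X⟧]
      exact PowerSeries.constantCoeff_C _ }

@[simp] lemma ccAlg_apply (f : K⟦X⟧) : ccAlg (k := k) f = PowerSeries.constantCoeff f := rfl

/-- The polynomial-level total Hasse derivative `p ↦ p (x + T)`. -/
noncomputable def polyHasse (x : K) : k[X] →ₐ[k] K⟦X⟧ :=
  Polynomial.aeval (PowerSeries.C x + PowerSeries.X)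

lemma constantCoeff_polyHasse (x : K) (p : k[X]) :
    PowerSeries.constantCoeff (polyHasse (k := k) x p) = Polynomial.aeval x p := by
  have h := Polynomial.aeval_algHom_apply (ccAlg (k := k) (K := K))
    (PowerSeries.C x + PowerSeries.X) p
  rw [ccAlg_apply, ccAlg_apply, map_add, PowerSeries.constantCoeff_C,
    PowerSeries.constantCoeff_X, add_zero] at h
  exact h.symm

lemma isUnit_polyHasse {x : K} (hx : Transcendental k x) (p : nonZeroDivisors k[X]) :
    IsUnit ((polyHasse (k := k) x).toRingHom p) := by
  change IsUnit (polyHasse (k := k) x p)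
  rw [PowerSeries.isUnit_iff_constantCoeff, constantCoeff_polyHasse, isUnit_iff_ne_zero]
  intro h0
  exact nonZeroDivisors.coe_ne_zero p ((transcendental_iff.1 hx) _ h0)

/-- The rational-function-level total Hasse derivative. -/
noncomputable def ratHasse {x : K} (hx : Transcendental k x) : RatFunc k →+* K⟦X⟧ :=
  IsLocalization.lift (M := nonZeroDivisors k[X]) (S := RatFunc k)
    (g := (polyHasse (k := k) x).toRingHom) (isUnit_polyHasse hx)

lemma ratHasse_algebraMap {x : K} (hx : Transcendental k x) (p : k[X]) :
    ratHasse hx (algebraMap k[X] (RatFunc k) p) = polyHasse x p :=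
  IsLocalization.lift_eq _ p

lemma constantCoeff_ratHasse {x : K} (hx : Transcendental k x) (r : RatFunc k) :
    PowerSeries.constantCoeff (ratHasse hx r) =
      algebraMap k⟮x⟯ K (RatFunc.algEquivOfTranscendental x hx r) := by
  have : (PowerSeries.constantCoeff (R := K)).comp (ratHasse hx) =
      (algebraMap k⟮x⟯ K).comp (RatFunc.algEquivOfTranscendental x hx).toAlgHom.toRingHom := by
    apply IsLocalization.ringHom_ext (nonZeroDivisors k[X])
    refine RingHom.ext fun p => ?_
    change PowerSeries.constantCoeff (ratHasse hx (algebraMap k[X] (RatFunc k) p)) =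
      algebraMap k⟮x⟯ K (RatFunc.algEquivOfTranscendental x hx (algebraMap k[X] (RatFunc k) p))
    rw [ratHasse_algebraMap, constantCoeff_polyHasse,
      RatFunc.algEquivOfTranscendental_algebraMap, ← Polynomial.aeval_algebraMap_apply,
      IntermediateField.AdjoinSimple.algebraMap_gen]
  exact RingHom.congr_fun this r


/-- **Existence of the total Hasse derivative** with respect to a separating transcendental
element. -/
theorem exists_hasse_of_separating {x : K} (hx : Transcendental k x)
    [FiniteDimensional k⟮x⟯ K] [Algebra.IsSeparable k⟮x⟯ K] :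
    ∃ H : K →ₐ[k] K⟦X⟧, LocRes.IsHasseFamily x H := by
  classical
  let e := RatFunc.algEquivOfTranscendental x hx
  let H₀ : k⟮x⟯ →+* K⟦X⟧ := (ratHasse hx).comp e.symm.toAlgHom.toRingHom
  have h₀ : ∀ a : k⟮x⟯, PowerSeries.constantCoeff (H₀ a) = algebraMap k⟮x⟯ K a := by
    intro a
    change PowerSeries.constantCoeff (ratHasse hx (e.symm a)) = _
    rw [constantCoeff_ratHasse]
    change algebraMap k⟮x⟯ K (e (e.symm a)) = _
    rw [e.apply_symm_apply]
  obtain ⟨H, hH₀, hH⟩ := exists_extend H₀ h₀
  have hcomm : ∀ c : k, H (algebraMap k K c) = algebraMap k K⟦X⟧ c := by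
    intro c
    rw [IsScalarTower.algebraMap_apply k k⟮x⟯ K, hH₀]
    change ratHasse hx (e.symm (algebraMap k k⟮x⟯ c)) = _
    rw [e.symm.commutes, IsScalarTower.algebraMap_apply k k[X] (RatFunc k), ratHasse_algebraMap]
    exact (polyHasse x).commutes c
  refine ⟨{ H with commutes' := hcomm }, ?_, hH⟩
  change H x = _
  have hxg : x = algebraMap k⟮x⟯ K (AdjoinSimple.gen k x) := rfl
  rw [hxg, hH₀]
  change ratHasse hx (e.symm (AdjoinSimple.gen k x)) = _
  rw [RatFunc.algEquivOfTranscendental_symm_gen, ← RatFunc.algebraMap_X, ratHasse_algebraMap]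
  exact Polynomial.aeval_X _

end Groth.Agent.Lib.Helper34.SV
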