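import Mathlib

/-!
# Extending total Hasse derivatives along finite separable extensions (helper34)
-/

set_option autoImplicit false
set_option linter.style.haveILetI false

namespace Groth.Agent.Lib.Helper34.SV

open Polynomial PowerSeries IntermediateField

/-- Let `K/F` be finite separable and `H₀ : F → K⟦T⟧` a ring homomorphism whose constant-term map is
the inclusion of `F`. Then `H₀` extends to `H : K → K⟦T⟧` whose constant-term map is the
identity. -/
theorem exists_extend {F K : Type*} [Field F] [Field K] [Algebra F K] [FiniteDimensional F K]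
    [Algebra.IsSeparable F K] (H₀ : F →+* K⟦X⟧)
    (h₀ : ∀ a : F, PowerSeries.constantCoeff (H₀ a) = algebraMap F K a) :
    ∃ H : K →+* K⟦X⟧, (∀ a : F, H (algebraMap F K a) = H₀ a) ∧
      ∀ y : K, PowerSeries.constantCoeff (H y) = y := by
  classical
  obtain ⟨y, hy⟩ := Field.exists_primitive_element F K
  letI alg : Algebra F K⟦X⟧ := H₀.toAlgebra
  have halg : ∀ a : F, algebraMap F K⟦X⟧ a = H₀ a := fun a => rfl
  -- the power basis
  have hint : IsIntegral F y := Algebra.IsIntegral.isIntegral y
  let pb0 := IntermediateField.adjoin.powerBasis hint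
  let e : F⟮y⟯ ≃ₐ[F] K := (IntermediateField.equivOfEq hy).trans IntermediateField.topEquiv
  let pb : PowerBasis F K := pb0.map e
  have hgen : pb.gen = y := by
    change e (IntermediateField.AdjoinSimple.gen F y) = y
    rfl
  -- Hensel
  let f : K⟦X⟧[X] := (minpoly F y).map H₀
  have hmonic : f.Monic := (minpoly.monic hint).map H₀
  have hcc : ∀ g : F[X], PowerSeries.constantCoeff ((g.map H₀).eval (PowerSeries.C y)) =
      aeval y g := by
    intro g
    rw [← Polynomial.eval₂_hom, Polynomial.eval₂_map, PowerSeries.constantCoeff_C]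
    have : (PowerSeries.constantCoeff (R := K)).comp H₀ = algebraMap F K := by
      ext a
      exact h₀ a
    rw [this]
    rfl
  have h1 : f.eval (PowerSeries.C y) ∈ (Ideal.span {(PowerSeries.X : K⟦X⟧)}) := by
    rw [Ideal.mem_span_singleton, PowerSeries.X_dvd_iff, hcc, minpoly.aeval]
  have h2 : IsUnit (Ideal.Quotient.mk (Ideal.span {(PowerSeries.X : K⟦X⟧)})
      (f.derivative.eval (PowerSeries.C y))) := by
    apply IsUnit.map
    rw [PowerSeries.isUnit_iff_constantCoeff]
    have : f.derivative = ((minpoly F y).derivative).map H₀ := Polynomial.derivative_map _ _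
    rw [this, hcc]
    have hsep : (minpoly F y).Separable := Algebra.IsSeparable.isSeparable F y
    exact isUnit_iff_ne_zero.2 (hsep.aeval_derivative_ne_zero (minpoly.aeval F y))
  obtain ⟨Y, hroot, hY⟩ := HenselianRing.is_henselian
    (I := Ideal.span {(PowerSeries.X : K⟦X⟧)}) f hmonic (PowerSeries.C y) h1 h2
  have hY0 : PowerSeries.constantCoeff Y = y := by
    rw [Ideal.mem_span_singleton, PowerSeries.X_dvd_iff, map_sub, PowerSeries.constantCoeff_C,
      sub_eq_zero] at hY
    exact hY
  have hroot' : aeval Y (minpoly F pb.gen) = 0 := by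
    rw [hgen]
    have : aeval Y (minpoly F y) = f.eval Y := by
      rw [Polynomial.aeval_def, Polynomial.eval_map]
      rfl
    rw [this]
    exact hroot
  let H : K →ₐ[F] K⟦X⟧ := pb.lift Y hroot'
  refine ⟨H.toRingHom, fun a => ?_, fun z => ?_⟩
  · change H (algebraMap F K a) = H₀ a
    rw [H.commutes, halg]
  · -- `constantCoeff ∘ H` is an `F`-algebra endomorphism of `K` fixing the generator
    let cc : K⟦X⟧ →ₐ[F] K :=
      { (PowerSeries.constantCoeff (R := K)) with
        commutes' := fun a => h₀ a }
    have hid : cc.comp H = AlgHom.id F K := by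
      apply pb.algHom_ext
      change PowerSeries.constantCoeff (H pb.gen) = pb.gen
      rw [pb.lift_gen, hY0, hgen]
    exact AlgHom.congr_fun hid z

end Groth.Agent.Lib.Helper34.SV
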