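import Mathlib

/-!
# Combinatorics of order sequences (helper34)
-/

set_option autoImplicit false

namespace Groth.Agent.Lib.Helper34.SV

lemma strictMono_succ_le {n : ℕ} {J : Fin n → ℕ} (hJ : StrictMono J) (h0 : ∀ l, 1 ≤ J l)
    (l : Fin n) : (l : ℕ) + 1 ≤ J l := by
  obtain ⟨m, hm⟩ := l
  induction m with
  | zero => exact h0 _
  | succ m ih =>
    have h1 := ih (by omega)
    have h2 : J ⟨m, by omega⟩ < J ⟨m + 1, hm⟩ := hJ (by simp [Fin.lt_def])
    simp only at h1 ⊢
    omega

lemma strictMono_le {n : ℕ} {J : Fin n → ℕ} (hJ : StrictMono J) (l : Fin n) : (l : ℕ) ≤ J l := by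
  obtain ⟨m, hm⟩ := l
  induction m with
  | zero => exact Nat.zero_le _
  | succ m ih =>
    have h1 := ih (by omega)
    have h2 : J ⟨m, by omega⟩ < J ⟨m + 1, hm⟩ := hJ (by simp [Fin.lt_def])
    simp only at h1 ⊢
    omega

lemma strictMono_add_le {n : ℕ} {J : Fin n → ℕ} (hJ : StrictMono J) :
    ∀ (d : ℕ) (l l' : Fin n), (l' : ℕ) = l + d → J l + d ≤ J l' := by
  intro d
  induction d with
  | zero =>
    intro l l' h
    have : l' = l := Fin.ext (by omega)
    rw [this]
    omega
  | succ d ih =>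
    intro l l' h
    have hlt : (l : ℕ) + d < n := by have := l'.2; omega
    have h1 := ih l ⟨l + d, hlt⟩ rfl
    have h2 : J ⟨l + d, hlt⟩ < J l' := hJ (by rw [Fin.lt_def]; simp only; omega)
    omega

/-- If the strictly increasing sequence `J'` of positive integers takes all the values
`1, …, N`, then these are its first `N` values. -/
lemma index_of_value {n N : ℕ} {J' : Fin n → ℕ} (hJ : StrictMono J') (h1 : ∀ l, 1 ≤ J' l)
    (hrange : ∀ j, 1 ≤ j → j ≤ N → j ∈ Set.range J') :
    ∀ j, 1 ≤ j → j ≤ N → ∀ l : Fin n, J' l = j → (l : ℕ) + 1 = j := by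
  intro j hj
  induction j, hj using Nat.le_induction with
  | base =>
    intro _ l hl
    have := strictMono_succ_le hJ h1 l
    omega
  | succ j hj ih =>
    intro hjN l hl
    have h2 := strictMono_succ_le hJ h1 l
    obtain ⟨l'', hl''⟩ := hrange j hj (by omega)
    have h3 := ih (by omega) l'' hl''
    have h4 : l'' < l := by
      rw [← hJ.lt_iff_lt, hl'', hl]
      omega
    rw [Fin.lt_def] at h4
    omega

/-- The pointwise bound on the orders at a point whose gap sequence is controlled. -/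
lemma orders_le {n g : ℕ} {J' : Fin n → ℕ} (hJ : StrictMono J')
    (h1 : ∀ l, 1 ≤ J' l) (hm : ∀ l, J' l ≤ n + g)
    (hrange : ∀ j, 1 ≤ j → j ≤ n - g → j ∈ Set.range J') (l : Fin n) :
    J' l ≤ l + 1 + (if n - g ≤ (l : ℕ) then g else 0) := by
  split_ifs with hl
  · have hn : 0 < n := by have := l.2; omega
    have h2 := strictMono_add_le hJ (n - 1 - l) l ⟨n - 1, by omega⟩ (by simp only; omega)
    have h3 := hm ⟨n - 1, by omega⟩
    omega
  · rw [not_le] at hl
    obtain ⟨l', hl'⟩ := hrange ((l : ℕ) + 1) (by omega) (by omega)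
    have h2 := index_of_value hJ h1 hrange _ (by omega) (by omega) l' hl'
    have : l' = l := Fin.ext (by omega)
    rw [this] at hl'
    omega

lemma sum_ite_le {n g : ℕ} (hg : g ≤ n) :
    ∑ l : Fin n, ((l : ℕ) + (if n - g ≤ (l : ℕ) then g else 0)) * 2 = n * (n - 1) + 2 * g * g := by
  rw [Fin.sum_univ_eq_sum_range (fun i => (i + (if n - g ≤ i then g else 0)) * 2) n]
  rw [← Finset.sum_mul, Finset.sum_add_distrib, add_mul, Finset.sum_range_id_mul_two]
  congr 1
  rw [← Finset.sum_range_add_sum_Ico _ (Nat.sub_le n g)]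
  have h1 : ∑ i ∈ Finset.range (n - g), (if n - g ≤ i then g else 0) = 0 := by
    apply Finset.sum_eq_zero
    intro i hi
    rw [Finset.mem_range] at hi
    rw [if_neg (by omega)]
  have h2 : ∑ i ∈ Finset.Ico (n - g) n, (if n - g ≤ i then g else 0) = g * g := by
    rw [Finset.sum_congr rfl (g := fun _ => g)]
    · rw [Finset.sum_const, Nat.card_Ico, smul_eq_mul]
      congr 1
      omega
    · intro i hi
      rw [Finset.mem_Ico] at hi
      rw [if_pos hi.1]
  rw [h1, h2]
  ring

/-- The bound on the sum of the `τ`-orders. -/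
theorem two_mul_sum_le {n g : ℕ} (hg : g ≤ n) {J J' : Fin n → ℕ} (hJ' : StrictMono J')
    (h1 : ∀ l, 1 ≤ J' l) (hm : ∀ l, J' l ≤ n + g)
    (hrange : ∀ j, 1 ≤ j → j ≤ n - g → j ∈ Set.range J')
    (hJJ' : ∀ l, J l + 1 ≤ J' l) :
    (∑ l, J l) * 2 ≤ n * (n - 1) + 2 * g * g := by
  rw [← sum_ite_le hg, Finset.sum_mul]
  apply Finset.sum_le_sum
  intro l _
  have := orders_le hJ' h1 hm hrange l
  have := hJJ' l
  omega

/-- Lower bound for a strictly increasing sequence. -/
theorem le_two_mul_sum {n : ℕ} {J : Fin n → ℕ} (hJ : StrictMono J) :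
    n * (n - 1) ≤ (∑ l, J l) * 2 := by
  have h := Fin.sum_univ_eq_sum_range (fun i => i) n
  rw [← Finset.sum_range_id_mul_two, ← h, Finset.sum_mul, Finset.sum_mul]
  apply Finset.sum_le_sum
  intro l _
  have : (l : ℕ) ≤ J l := strictMono_le hJ l
  omega

end Groth.Agent.Lib.Helper34.SV
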