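import Groth.Agent.Lib.Helper88.FunFldApps
import Groth.Agent.Lib.Helper88.FunFldLinSeries2

/-!
# Pole orders at a place of degree one (helper34)

For a place `P₀` of degree one and `j ≥ 2g` there is a function regular outside `P₀` with a pole
of order exactly `j` at `P₀` (Riemann–Roch).
-/

set_option autoImplicit false
set_option linter.style.haveILetI false
set_option linter.unusedSectionVars false

namespace Groth.Agent.Lib.Helper34.SV

open FunFld WithZero
open Groth.Agent.Lib.Helper88.FF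

variable {k K : Type*} [Field k] [Field K] [Algebra k K]

/-- The multiple `m P₀` as a divisor. -/
noncomputable def mulP (P₀ : Place k K) (m : ℤ) : Divisor k K := Finsupp.single P₀ m

lemma mulP_apply_self (P₀ : Place k K) (m : ℤ) : mulP P₀ m P₀ = m := by
  simp [mulP]

lemma mulP_apply_ne (P₀ : Place k K) (m : ℤ) {P : Place k K} (h : P ≠ P₀) : mulP P₀ m P = 0 := by
  classical
  unfold mulP
  rw [Finsupp.single_apply, if_neg (Ne.symm h)]

lemma mulP_mono (P₀ : Place k K) {m m' : ℤ} (h : m ≤ m') : mulP P₀ m ≤ mulP P₀ m' := by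
  intro P
  by_cases hP : P = P₀
  · subst hP
    rw [mulP_apply_self, mulP_apply_self]
    exact h
  · rw [mulP_apply_ne _ _ hP, mulP_apply_ne _ _ hP]

lemma deg_mulP {P₀ : Place k K} (hdeg : P₀.deg = 1) (m : ℤ) : (mulP P₀ m).deg = m := by
  unfold mulP
  rw [deg_single, hdeg]
  simp

/-- `ℓ(m P₀) = m + 1 - g` for `m ≥ 2g - 1`. -/
lemma ell_mulP (hK : IsFunctionField k K) {P₀ : Place k K} (hdeg : P₀.deg = 1) {m : ℤ}
    (hm : 2 * (genus k K : ℤ) - 1 ≤ m) : (ell (mulP P₀ m) : ℤ) = m + 1 - genus k K := by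
  have := ell_eq_of_le_deg hK (D := mulP P₀ m) (by rw [deg_mulP hdeg]; exact hm)
  rw [deg_mulP hdeg] at this
  exact this

/-- A nonzero function regular outside `P₀` has no zero at `P₀`. -/
lemma one_le_val_of_mem_L_mulP (hK : IsFunctionField k K) {P₀ : Place k K} (hdeg : P₀.deg = 1)
    {m : ℤ} {f : K} (hf : f ∈ L (mulP P₀ m)) (hf0 : f ≠ 0) : 1 ≤ P₀.1 f := by
  by_contra hlt
  rw [not_le] at hlt
  have hmem : f ∈ L (mulP P₀ (-1)) := by
    intro P
    by_cases hP : P = P₀
    · subst hP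
      rw [mulP_apply_self]
      exact lt_one_iff_le_exp_neg_one.1 hlt
    · have := hf P
      rw [mulP_apply_ne _ _ hP] at this ⊢
      exact this
  have hbot : L (mulP P₀ (-1)) = ⊥ :=
    L_eq_bot_of_deg_neg hK (by rw [deg_mulP hdeg]; norm_num)
  rw [hbot, Submodule.mem_bot] at hmem
  exact hf0 hmem

/-- **Non-gaps.** For `j ≥ 2g` there is a function in `L(j P₀)` with pole order exactly `j` at
`P₀`. -/
theorem exists_pole_order (hK : IsFunctionField k K) {P₀ : Place k K} (hdeg : P₀.deg = 1) {j : ℕ}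
    (hj : 2 * genus k K ≤ j) : ∃ f ∈ L (mulP P₀ (j : ℤ)), P₀.1 f = exp (j : ℤ) := by
  classical
  have h1 := ell_mulP hK hdeg (m := (j : ℤ) - 1) (by omega)
  have h2 := ell_mulP hK hdeg (m := (j : ℤ)) (by omega)
  have hle : L (mulP P₀ ((j : ℤ) - 1)) ≤ L (mulP P₀ (j : ℤ)) := L_mono (mulP_mono P₀ (by omega))
  have hne : L (mulP P₀ ((j : ℤ) - 1)) ≠ L (mulP P₀ (j : ℤ)) := by
    intro heq
    unfold ell at h1 h2
    rw [heq] at h1
    omega
  obtain ⟨f, hf2, hf1⟩ := SetLike.exists_of_lt (lt_of_le_of_ne hle hne)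
  refine ⟨f, hf2, ?_⟩
  have hfle := hf2 P₀
  rw [mulP_apply_self] at hfle
  refine le_antisymm hfle ?_
  by_contra hlt
  rw [not_le] at hlt
  apply hf1
  intro P
  by_cases hP : P = P₀
  · subst hP
    rw [mulP_apply_self]
    have : P.1 f < exp (((j : ℤ) - 1) + 1) := by rwa [sub_add_cancel]
    exact lt_exp_succ_iff.1 this
  · have := hf2 P
    rw [mulP_apply_ne _ _ hP] at this ⊢
    exact this

end Groth.Agent.Lib.Helper34.SV
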