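import Groth.Agent.Lib.Helper34.SV.HasseAt
import Groth.Agent.Lib.Helper34.SV.PoleOrders
import Groth.Agent.Lib.Helper34.SV.OrdersSum
import Groth.Agent.Lib.Helper88.SVFixed
import Groth.Agent.Lib.Helper88.SVClassical
import Groth.Agent.S12600
import Groth.Agent.S12604
import Groth.Agent.S12606
import Groth.Agent.S12607

/-!
# The bound for the number of strong fixed points (helper34)

Goldschmidt's estimate: for an endomorphism `τ` with a strong fixed point `P₀` and `n > g`, the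
complete linear system `|(n + g) P₀|` gives
`n N ≤ (n + deg τ)(n + g) + (2g - 2)(n(n-1)/2 + g²)`.
-/

set_option autoImplicit false
set_option linter.style.haveILetI false
set_option linter.unusedSectionVars false

namespace Groth.Agent.Lib.Helper34.SV

open FunFld WithZero LocRes PowerSeries
open Groth.Agent.Lib.Helper88.FF Groth.Agent.Lib.Helper88.SV
open Groth.Agent.Lib.Helper44.FFExt

variable {k K : Type*} [Field k] [IsAlgClosed k] [Field K] [Algebra k K]

/-- The tuple given by a basis of `L(D)`. -/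
lemma exists_basis_L (hK : IsFunctionField k K) (D : Divisor k K) {n : ℕ}
    (hell : ell D = n + 1) :
    ∃ φ : Fin (n + 1) → K, LinearIndependent k φ ∧
      Submodule.span k (Set.range φ) = L D := by
  haveI := finiteDimensional_L hK D
  let b : Module.Basis (Fin (n + 1)) k (L D) := Module.finBasisOfFinrankEq k _ hell
  refine ⟨fun i => (b i : K), ?_, ?_⟩
  · exact b.linearIndependent.map' (L D).subtype (Submodule.ker_subtype _)
  · have : (Set.range fun i => (b i : K)) = (L D).subtype '' Set.range b := by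
      rw [← Set.range_comp]
      rfl
    rw [this, ← Submodule.map_span, b.span_eq, Submodule.map_top, Submodule.range_subtype]

omit [IsAlgClosed k] in
lemma mem_span_smul_iff {n : ℕ} (φ : Fin (n + 1) → K) {y : K} (hy : y ≠ 0) (f : K) :
    f ∈ Submodule.span k (Set.range (y • φ)) ↔ y⁻¹ * f ∈ Submodule.span k (Set.range φ) := by
  have : Set.range (y • φ) = (LinearMap.mulLeft k y) '' Set.range φ := by
    rw [← Set.range_comp]
    rfl
  rw [this, ← Submodule.map_span, Submodule.mem_map]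
  constructor
  · rintro ⟨h, hh, rfl⟩
    rw [LinearMap.mulLeft_apply, inv_mul_cancel_left₀ hy]
    exact hh
  · intro hh
    refine ⟨_, hh, ?_⟩
    rw [LinearMap.mulLeft_apply, mul_inv_cancel_left₀ hy]


/-- **Goldschmidt's estimate**, integral form. -/
theorem strongFixed_bound (hK : IsFunctionField k K) (τ : K →ₐ[k] K) (n : ℕ)
    (hn : genus k K < n) (P₀ : Place k K) (hP₀ : IsStrongFixedPt τ P₀) :
    {P : Place k K | IsStrongFixedPt τ P}.Finite ∧
    (n : ℤ) * (Set.ncard {P : Place k K | IsStrongFixedPt τ P} : ℤ) ≤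
      (Module.finrank τ.fieldRange K : ℤ) * n + (Module.finrank τ.fieldRange K : ℤ) * genus k K +
        (genus k K : ℤ) * n ^ 2 + n + 2 * (genus k K : ℤ) ^ 2 * ((genus k K : ℤ) - 1) := by
  classical
  obtain ⟨g, hg⟩ : ∃ g, g = genus k K := ⟨_, rfl⟩
  rw [← hg] at hn ⊢
  have hn0 : 0 < n := by omega
  have hdeg : P₀.deg = 1 := deg_eq_one_of_isAlgClosed hK P₀
  obtain ⟨m, hm⟩ : ∃ m : ℕ, m = n + g := ⟨_, rfl⟩
  -- functions with pole orders `m` and `m - 1`
  obtain ⟨f₁, hf₁L, hf₁⟩ := exists_pole_order hK hdeg (j := m) (by omega)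
  obtain ⟨f₂, hf₂L, hf₂⟩ := exists_pole_order hK hdeg (j := m - 1) (by omega)
  have hf₁0 : f₁ ≠ 0 := by
    rintro rfl
    rw [map_zero] at hf₁
    exact exp_ne_zero hf₁.symm
  -- the basis of `L(m P₀)`
  have hell : ell (mulP P₀ (m : ℤ)) = n + 1 := by
    have := ell_mulP hK hdeg (m := (m : ℤ)) (by omega)
    omega
  obtain ⟨φ, hφ, hspan⟩ := exists_basis_L hK (mulP P₀ (m : ℤ)) hell
  have hφL : ∀ i, φ i ∈ L (mulP P₀ (m : ℤ)) := fun i => by
    rw [← hspan]
    exact Submodule.subset_span ⟨i, rfl⟩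
  obtain ⟨y, hy⟩ : ∃ y, y = f₁⁻¹ := ⟨_, rfl⟩
  have hy0 : y ≠ 0 := by rw [hy]; exact inv_ne_zero hf₁0
  have hPy : P₀.1 y = exp (-(m : ℤ)) := by rw [hy, map_inv₀, hf₁, exp_neg]
  have hφ' : LinearIndependent k (y • φ) := linearIndependent_smul hφ hy0
  have hmem : ∀ h ∈ L (mulP P₀ (m : ℤ)), y * h ∈ Submodule.span k (Set.range (y • φ)) := by
    intro h hh
    rw [mem_span_smul_iff φ hy0, inv_mul_cancel_left₀ hy0, hspan]
    exact hh
  have heff : (1 : K) ∈ Submodule.span k (Set.range (y • φ)) := by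
    have := hmem f₁ hf₁L
    have h1 : y * f₁ = 1 := by rw [hy, inv_mul_cancel₀ hf₁0]
    rwa [h1] at this
  have hnorm : ∀ i, P₀.1 ((y • φ) i) ≤ 1 := by
    intro i
    change P₀.1 (y * φ i) ≤ 1
    have := hφL i P₀
    rw [mulP_apply_self] at this
    rw [map_mul, hPy]
    calc exp (-(m : ℤ)) * P₀.1 (φ i) ≤ exp (-(m : ℤ)) * exp (m : ℤ) := mul_le_mul_right this _
      _ = 1 := by rw [← exp_add]; simp
  -- `τ(φ)` is not a multiple of `φ`
  have hτφ : ¬ ∃ z : K, ∀ i, τ ((y • φ) i) = z * (y • φ) i := by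
    rintro ⟨z, hz⟩
    have hlin : ∀ u ∈ Submodule.span k (Set.range (y • φ)), τ u = z * u := by
      intro u hu
      induction hu using Submodule.span_induction with
      | mem x hx =>
        obtain ⟨i, rfl⟩ := hx
        exact hz i
      | zero => simp
      | add a b _ _ ha hb => rw [map_add, ha, hb, mul_add]
      | smul c a _ ha => rw [map_smul, ha, mul_smul_comm]
    have h1 := hlin 1 heff
    rw [map_one, mul_one] at h1
    have hu₂ : y * f₂ ∈ Submodule.span k (Set.range (y • φ)) :=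
      hmem f₂ (L_mono (mulP_mono P₀ (by omega)) hf₂L)
    have h2 := hlin _ hu₂
    rw [← h1, one_mul] at h2
    have hv : P₀.1 (y * f₂) = exp (-1 : ℤ) := by
      rw [map_mul, hPy, hf₂, ← exp_add]
      congr 1
      omega
    have h3 := hP₀ (y * f₂) (by rw [hv, ← exp_zero, exp_lt_exp]; norm_num)
    rw [h2, hv, exp_le_exp] at h3
    omega
  -- local parameter and Hasse derivative
  obtain ⟨t, ht⟩ : ∃ t : K, P₀.1 t = exp (-1 : ℤ) := P₀.2.2 _
  obtain ⟨Ht, hHt⟩ := exists_hasse_at hK P₀ ht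
  obtain ⟨J, hJ, -⟩ := Groth.Agent.S12600.result k K hK (y • φ) hφ' τ t Ht hHt
  obtain ⟨J', hJ'⟩ := exists_orders_at hK P₀ ht hHt (y • φ) hφ' heff hnorm
  have h06 := Groth.Agent.S12606.result k K hK τ P₀ hP₀ hn0 (y • φ) hφ' heff hnorm hτφ t ht Ht hHt
    J hJ J' hJ'
  have h07 := (Groth.Agent.S12607.result k K hK P₀ (y • φ) hφ' heff hnorm t ht Ht hHt J' hJ').2
  have hpos : ∀ l, 1 ≤ J' l := fun l => orders_at_pos hK P₀ ht hHt (y • φ) hnorm hJ' l
  -- the degree of the map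
  have hdegφ : (mapDiv k (y • φ)).deg ≤ (m : ℤ) := by
    rw [deg_mapDiv_smul hK φ (fun i => hφ.ne_zero i) hy0, ← deg_mulP hdeg (m : ℤ)]
    apply deg_mono
    intro P
    rw [mapDiv_apply hK, neg_le]
    apply Finset.le_inf'
    intro i _
    exact (val_le_exp_iff P (hφ.ne_zero i) _).1 (hφL i P)
  have hle : ∀ l, J' l ≤ n + g := by
    intro l
    have := order_at_le_deg hK P₀ ht hHt (y • φ) hφ' heff hnorm hJ' l
    omega
  have hrange : ∀ j, 1 ≤ j → j ≤ n - g → j ∈ Set.range J' := by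
    intro j hj1 hj2
    obtain ⟨h, hhL, hh⟩ := exists_pole_order hK hdeg (j := m - j) (by omega)
    have hmemh : y * h ∈ Submodule.span k (Set.range (y • φ)) :=
      hmem h (L_mono (mulP_mono P₀ (by omega)) hhL)
    have hv : P₀.1 (y * h) = exp (-(j : ℤ)) := by
      rw [map_mul, hPy, hh, ← exp_add]
      congr 1
      omega
    rcases (h07 j).2 ⟨_, hmemh, hv⟩ with h0 | h0
    · omega
    · exact h0
  have hsum := two_mul_sum_le (g := g) (J := J) (J' := J') (le_of_lt hn) hJ'.1 hpos hle hrange (fun l => by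
    have := h06 l
    have := hpos ⟨0, hn0⟩
    omega)
  have hlow := le_two_mul_sum hJ.1
  obtain ⟨hfin, hN⟩ := Groth.Agent.S12604.result k K hK τ (y • φ) hφ' hτφ t Ht hHt J hJ
  refine ⟨hfin, ?_⟩
  rw [← hg] at hN
  obtain ⟨N, hNdef⟩ : ∃ N : ℤ, N = (Set.ncard {P : Place k K | IsStrongFixedPt τ P} : ℤ) :=
    ⟨_, rfl⟩
  obtain ⟨d, hd⟩ : ∃ d : ℕ, d = Module.finrank τ.fieldRange K := ⟨_, rfl⟩
  obtain ⟨S, hS⟩ : ∃ S : ℤ, S = ∑ l, (J l : ℤ) := ⟨_, rfl⟩
  obtain ⟨e, he⟩ : ∃ e : ℤ, e = (mapDiv k (y • φ)).deg := ⟨_, rfl⟩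
  rw [← hNdef, ← hd, ← hS, ← he] at hN
  rw [← hNdef, ← hd]
  rw [← he] at hdegφ
  have hS2 : S * 2 ≤ (n : ℤ) * ((n : ℤ) - 1) + 2 * g * g := by
    have : ((∑ l, J l : ℕ) : ℤ) = S := by rw [hS]; push_cast; rfl
    rw [← this]
    have h := hsum
    zify at h
    rw [Nat.cast_pred hn0] at h
    push_cast
    exact h
  have hS2' : (n : ℤ) * ((n : ℤ) - 1) ≤ S * 2 := by
    have : ((∑ l, J l : ℕ) : ℤ) = S := by rw [hS]; push_cast; rfl
    rw [← this]
    have h := hlow
    zify at h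
    rw [Nat.cast_pred hn0] at h
    push_cast
    exact h
  have hd0 : (0 : ℤ) ≤ (n : ℤ) + d := by positivity
  have h1 : ((n : ℤ) + d) * e ≤ ((n : ℤ) + d) * ((n : ℤ) + g) := by
    apply mul_le_mul_of_nonneg_left _ hd0
    rw [hm] at hdegφ
    push_cast at hdegφ
    exact hdegφ
  rcases Nat.eq_zero_or_pos g with hg0 | hg0
  · subst hg0
    push_cast at hN h1 hS2 hS2' ⊢
    nlinarith
  · have hg1 : (0 : ℤ) ≤ (g : ℤ) - 1 := by
      have : (1 : ℤ) ≤ g := by exact_mod_cast hg0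
      linarith
    have h2 : (2 * (g : ℤ) - 2) * S ≤ ((g : ℤ) - 1) * ((n : ℤ) * ((n : ℤ) - 1) + 2 * g * g) := by
      have := mul_le_mul_of_nonneg_left hS2 hg1
      linarith
    nlinarith

end Groth.Agent.Lib.Helper34.SV
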